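import Groth.Agent.MeroLib.Dense
import Groth.Agent.MeroLib.Special
import Groth.Agent.S12513
import Mathlib.RingTheory.Ideal.AssociatedPrime.Localization

/-!
Meromorphic functions on an affine open of a locally Noetherian scheme are fractions.
-/

set_option autoImplicit false
set_option linter.style.haveILetI false
set_option backward.isDefEq.respectTransparency false

universe u

open CategoryTheory AlgebraicGeometry TopologicalSpace Opposite Mero
open Groth.Agent.MeroLib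

noncomputable section

namespace Groth.Agent.W7Mero

variable {X : Scheme.{u}}

/-- A meromorphic function vanishing on a basic open is killed by a power of its equation. -/
theorem exists_pow_mul_eq_zero {U : X.Opens} (hU : IsAffineOpen U) (g : Γ(X, U)) (δ : Γ(kmod X, U))
    (h : ∀ (y : X) (hy : y ∈ X.basicOpen g), δ.1 ⟨y, X.basicOpen_le g hy⟩ = 0) :
    ∃ m : ℕ, ∀ y : U, δ.1 y * iK y.1 (gO y.1 y.2 g) ^ m = 0 := by
  classical
  choose W hWU a b hW hxW hb hab using fun x : U => exists_frac δ x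
  obtain ⟨F, hF⟩ := hU.isCompact.elim_finite_subcover (fun x : U => (W x : Set X)) (fun x => (W x).2)
    fun x hx => Set.mem_iUnion.mpr ⟨⟨x, hx⟩, hxW _⟩
  have hm : ∀ x : U, ∃ m : ℕ, X.presheaf.map (homOfLE (hWU x)).op g ^ m * a x = 0 := fun x => by
    haveI := (hW x).isLocalization_basicOpen (X.presheaf.map (homOfLE (hWU x)).op g)
    have h0 : algebraMap Γ(X, W x) Γ(X, X.basicOpen (X.presheaf.map (homOfLE (hWU x)).op g)) (a x) = 0 := by
      refine TopCat.Presheaf.section_ext X.sheaf _ _ 0 fun y hy => iK_inj y ?_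
      change iK y (gO y hy _) = iK y (gO y hy 0)
      have hy' : y ∈ W x := X.basicOpen_le _ hy
      have hyg : y ∈ X.basicOpen g := by
        rw [Scheme.basicOpen_res] at hy; exact hy.2
      simp only [RingHom.algebraMap_toAlgebra, map_zero]
      erw [TopCat.Presheaf.germ_res_apply]
      refine (hab x ⟨y, hy'⟩).symm.trans ?_
      rw [h y hyg, zero_mul]
    obtain ⟨⟨_, m, rfl⟩, hm⟩ := (IsLocalization.map_eq_zero_iff
      (Submonoid.powers (X.presheaf.map (homOfLE (hWU x)).op g)) _ _).mp h0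
    exact ⟨m, hm⟩
  choose m hm using hm
  refine ⟨F.sup m, fun y => ?_⟩
  obtain ⟨x, hxF, hyx⟩ := Set.mem_iUnion₂.mp (hF y.2)
  obtain ⟨l, hl⟩ := Nat.exists_eq_add_of_le (Finset.le_sup (f := m) hxF)
  refine (isUnit_iK_of_mem (germ_mem_regStalk (⟨y.1, hyx⟩ : W x) (hb x))).mul_left_eq_zero.mp ?_
  have h1 := congrArg (fun s => iK y.1 (gO y.1 hyx s)) (hm x)
  simp only [map_mul, map_pow, map_zero, gO, TopCat.Presheaf.germ_res_apply] at h1
  rw [hl, pow_add, mul_right_comm, hab x ⟨y.1, hyx⟩]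
  change iK y.1 (gO y.1 hyx (a x)) * (iK y.1 (gO y.1 y.2 g) ^ m x * iK y.1 (gO y.1 y.2 g) ^ l) = 0
  rw [← mul_assoc, mul_comm (iK y.1 (gO y.1 hyx (a x))), h1, zero_mul]

/-- Fractions exist when finitely many primes cover the zero divisors and regular germs are units there. -/
theorem exists_fraction' {U : X.Opens} (hU : IsAffineOpen U) {Q : Set (Ideal Γ(X, U))} (hQ : Q.Finite)
    (hQp : ∀ q ∈ Q, q.IsPrime) (hcov : ∀ b : Γ(X, U), (∀ q ∈ Q, b ∉ q) → b ∈ nonZeroDivisors Γ(X, U))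
    (hunit : ∀ q ∈ Q, ∀ z : U, (hU.primeIdealOf z).asIdeal = q →
      ∀ t ∈ nonZeroDivisors (X.presheaf.stalk z.1), IsUnit t)
    (f : Γ(kmod X, U)) :
    ∃ a b : Γ(X, U), b ∈ nonZeroDivisors Γ(X, U) ∧
      ∀ y : U, f.1 y * iK y.1 (gO y.1 y.2 b) = iK y.1 (gO y.1 y.2 a) := by
  classical
  let I : Ideal Γ(X, U) :=
    { carrier := {b | ∃ a, ∀ y : U, f.1 y * iK y.1 (gO y.1 y.2 b) = iK y.1 (gO y.1 y.2 a)}
      add_mem' := fun {b b'} ⟨a, ha⟩ ⟨a', ha'⟩ => ⟨a + a', fun y => by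
        simp only [map_add, mul_add, ha y, ha' y]⟩
      zero_mem' := ⟨0, fun y => by simp⟩
      smul_mem' := fun c b ⟨a, ha⟩ => ⟨c * a, fun y => by
        simp only [smul_eq_mul, map_mul, ← ha y]; ring⟩ }
  by_contra hno
  have hsub : (I : Set Γ(X, U)) ⊆ ⋃ q ∈ Q, (q : Set Γ(X, U)) := by
    intro b hb
    by_contra hbQ
    obtain ⟨a, ha⟩ := hb
    simp only [Set.mem_iUnion, SetLike.mem_coe, not_exists] at hbQ
    exact hno ⟨a, b, hcov b hbQ, ha⟩
  obtain ⟨q, hq, hle⟩ := (Ideal.subset_union_prime_finite hQ ⊥ ⊥ (fun p hp _ _ => hQp p hp)).1 hsub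
  haveI := hQp q hq
  obtain ⟨z, hz⟩ : ∃ z : U, hU.primeIdealOf z = ⟨q, inferInstance⟩ :=
    ⟨⟨hU.fromSpec ⟨q, inferInstance⟩, by rw [← SetLike.mem_coe, ← hU.range_fromSpec]; exact Set.mem_range_self _⟩,
      hU.fromSpec.isEmbedding.injective (hU.fromSpec_primeIdealOf _)⟩
  obtain ⟨W, hWU, a, b, hW, hzW, hb, hab⟩ := exists_frac f z
  obtain ⟨g, hgW, hzg⟩ := hU.exists_basicOpen_le ⟨z.1, hzW⟩ z.2
  haveI := hU.isLocalization_basicOpen g
  obtain ⟨⟨a₁, _, n, rfl⟩, ha₁⟩ := IsLocalization.surj (Submonoid.powers g) (X.presheaf.map (homOfLE hgW).op a)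
  obtain ⟨⟨b₁, _, n', rfl⟩, hb₁⟩ := IsLocalization.surj (Submonoid.powers g) (X.presheaf.map (homOfLE hgW).op b)
  have key : ∀ (y : X) (hy : y ∈ X.basicOpen g),
      gO y (hgW hy) a * gO y (X.basicOpen_le g hy) g ^ n = gO y (X.basicOpen_le g hy) a₁ ∧
      gO y (hgW hy) b * gO y (X.basicOpen_le g hy) g ^ n' = gO y (X.basicOpen_le g hy) b₁ := by
    intro y hy
    have h1 := congrArg (gO y hy) ha₁
    have h2 := congrArg (gO y hy) hb₁
    simp only [map_mul, RingHom.algebraMap_toAlgebra, gO] at h1 h2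
    erw [TopCat.Presheaf.germ_res_apply, TopCat.Presheaf.germ_res_apply, TopCat.Presheaf.germ_res_apply] at h1 h2
    rw [map_pow] at h1 h2
    exact ⟨h1, h2⟩
  obtain ⟨δ, hδ⟩ : ∃ δ : Γ(kmod X, U), δ = f * toK X U (g ^ n * b₁) - toK X U (g ^ n' * a₁) := ⟨_, rfl⟩
  have hδv : ∀ y : U, δ.1 y = f.1 y * iK y.1 (gO y.1 y.2 (g ^ n * b₁)) - iK y.1 (gO y.1 y.2 (g ^ n' * a₁)) := by
    intro y
    rw [hδ]
    exact (map_sub (evalK X U y) (f * toK X U (g ^ n * b₁)) (toK X U (g ^ n' * a₁))).trans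
      (congrArg₂ (· - ·) (map_mul (evalK X U y) f (toK X U (g ^ n * b₁))) rfl)
  obtain ⟨m, hm⟩ := exists_pow_mul_eq_zero hU g δ fun y hy => by
    rw [hδv, sub_eq_zero]
    simp only [map_mul, map_pow, ← (key y hy).1, ← (key y hy).2]
    rw [← show f.1 ⟨y, X.basicOpen_le g hy⟩ * iK y (gO y (hgW hy) b) = iK y (gO y (hgW hy) a) from hab ⟨y, hgW hy⟩]
    ring
  have hmem : g ^ n * b₁ * g ^ m ∈ I := ⟨g ^ n' * a₁ * g ^ m, fun y => by
    have h1 := hm y
    rw [hδv, sub_mul, sub_eq_zero, ← map_pow, ← map_pow] at h1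
    simp only [map_mul, map_pow] at h1 ⊢
    rw [← mul_assoc]
    exact h1⟩
  have hgq : g ∉ q := fun hg => by
    have h3 : hU.primeIdealOf z ∈ PrimeSpectrum.basicOpen g := by
      rw [← hU.fromSpec_preimage_basicOpen g]
      show hU.fromSpec _ ∈ X.basicOpen g
      rw [hU.fromSpec_primeIdealOf]
      exact hzg
    rw [hz] at h3
    exact h3 hg
  rcases (inferInstance : q.IsPrime).mem_or_mem (hle hmem) with h | h
  · rcases (inferInstance : q.IsPrime).mem_or_mem h with h | h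
    · exact hgq ((inferInstance : q.IsPrime).mem_of_pow_mem _ h)
    letI := TopCat.Presheaf.algebra_section_stalk X.presheaf z
    haveI := hU.isLocalization_stalk z
    have hb1 : gO z.1 z.2 b₁ ∈ IsLocalRing.maximalIdeal (X.presheaf.stalk z.1) :=
      (IsLocalization.AtPrime.to_map_mem_maximal_iff (X.presheaf.stalk z.1) (hU.primeIdealOf z).asIdeal b₁).mpr
        (by rw [hz]; exact h)
    refine (IsLocalRing.mem_maximalIdeal _).mp hb1 (hunit q hq z (by rw [hz]) _ ?_)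
    rw [← (key z.1 hzg).2]
    exact mul_mem (hb ⟨z.1, hzW⟩) (pow_mem (((X.mem_basicOpen g z.1 z.2).mp hzg).mem_nonZeroDivisors) _)
  · exact hgq ((inferInstance : q.IsPrime).mem_of_pow_mem _ h)

theorem exists_fraction [IsLocallyNoetherian X] {U : X.Opens} (hU : IsAffineOpen U) (f : Γ(kmod X, U)) :
    ∃ a b : Γ(X, U), b ∈ nonZeroDivisors Γ(X, U) ∧
      ∀ y : U, f.1 y * iK y.1 (gO y.1 y.2 b) = iK y.1 (gO y.1 y.2 a) := by
  haveI : IsNoetherianRing Γ(X, U) := IsLocallyNoetherian.component_noetherian ⟨U, hU⟩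
  refine exists_fraction' hU (associatedPrimes.finite Γ(X, U) Γ(X, U)) (fun q hq => hq.isPrime) (fun b hb => ?_)
    (fun q hq z hz t ht => ?_) f
  · by_contra hc
    have h1 : b ∈ ⋃ p ∈ associatedPrimes Γ(X, U) Γ(X, U), (p : Set Γ(X, U)) := by
      rw [biUnion_associatedPrimes_eq_compl_nonZeroDivisors]; exact hc
    obtain ⟨q, hq, hbq⟩ := Set.mem_iUnion₂.mp h1
    exact hb q hq hbq
  · letI := TopCat.Presheaf.algebra_section_stalk X.presheaf z
    haveI := hU.isLocalization_stalk z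
    have hass : IsAssociatedPrime (IsLocalRing.maximalIdeal (X.presheaf.stalk z.1)) (X.presheaf.stalk z.1) := by
      refine Module.associatedPrimes.mem_associatedPrimes_of_comap_mem_associatedPrimes_of_isLocalizedModule
        (hU.primeIdealOf z).asIdeal.primeCompl (Algebra.linearMap Γ(X, U) (↑(X.presheaf.stalk z.1) : Type u)) _ ?_
      have he := IsLocalization.AtPrime.under_maximalIdeal (↑(X.presheaf.stalk z.1) : Type u) (hU.primeIdealOf z).asIdeal
      rw [Ideal.under] at he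
      rw [he, hz]; exact hq
    by_contra hu
    obtain ⟨-, w, hw⟩ := isAssociatedPrime_iff.mp hass
    have h2 : t ∈ IsLocalRing.maximalIdeal (X.presheaf.stalk z.1) := (IsLocalRing.mem_maximalIdeal _).mpr hu
    rw [hw, Submodule.mem_colon_singleton, Submodule.mem_bot, smul_eq_mul] at h2
    have h3 : w = 0 := (mul_left_mem_nonZeroDivisors_eq_zero_iff ht).mp h2
    refine (IsLocalRing.maximalIdeal.isMaximal (X.presheaf.stalk z.1)).ne_top ?_
    rw [hw, h3, eq_top_iff]
    intro r _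
    rw [Submodule.mem_colon_singleton, smul_zero]
    exact zero_mem _

theorem isLocalization_kmod' (U : X.affineOpens)
    (hfrac : ∀ f : Γ(kmod X, U.1), ∃ a b : Γ(X, U.1), b ∈ nonZeroDivisors Γ(X, U.1) ∧
      ∀ y : U.1, f.1 y * iK y.1 (gO y.1 y.2 b) = iK y.1 (gO y.1 y.2 a)) :
    @IsLocalization Γ(X, U.1) _ (nonZeroDivisors Γ(X, U.1)) Γ(Mero.kmod X, U.1) _ (Mero.toK X U.1).toAlgebra := by
  letI := (Mero.toK X U.1).toAlgebra
  refine { map_units := ?_, surj := ?_, exists_of_eq := ?_ }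
  · rintro ⟨b, hb⟩
    refine isUnit_of_regular _ fun x => ⟨U.1, le_rfl, b, 1, x.2, ?_, one_mem _, fun y => ?_⟩
    · rw [Groth.Agent.S12513.result X U.1 U.2]; exact hb
    · rw [map_one, map_one, mul_one]
      exact toK_val b y
  · intro f
    obtain ⟨a, b, hb, h⟩ := hfrac f
    refine ⟨⟨a, ⟨b, hb⟩⟩, Subtype.ext (funext fun y => ?_)⟩
    exact h y
  · intro x y h
    refine ⟨1, ?_⟩
    have : x = y := TopCat.Presheaf.section_ext X.sheaf U.1 x y fun z hz => iK_inj z (by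
      have := congrArg (fun s => s.1 ⟨z, hz⟩) h
      exact this)
    rw [this]

theorem isLocalization_kmod [IsLocallyNoetherian X] (U : X.affineOpens) :
    @IsLocalization Γ(X, U.1) _ (nonZeroDivisors Γ(X, U.1)) Γ(Mero.kmod X, U.1) _ (Mero.toK X U.1).toAlgebra :=
  isLocalization_kmod' U (exists_fraction U.2)

end Groth.Agent.W7Mero
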