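import Groth.Agent.MeroLib.Special
import Groth.Agent.AssLib.Points

/-!
Invertible modules have regular meromorphic sections when the maximal points control the denominators.
-/

set_option autoImplicit false
set_option linter.style.haveILetI false
set_option backward.isDefEq.respectTransparency false

universe u

open CategoryTheory AlgebraicGeometry TopologicalSpace Opposite
open Groth.Agent.QC (res res_res)

noncomputable section

namespace Groth.Agent.W7Mero

variable {X : Scheme.{u}}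

/-- Being a maximal point for specialisation. -/
abbrev IsMaxPt (x : X) : Prop := ∀ y : X, y ⤳ x → y = x

theorem exists_maxPt {Z : Set X} (hZ : Z ∈ irreducibleComponents X) :
    ∃ g : X, IsMaxPt g ∧ closure ({g} : Set X) = Z := by
  obtain ⟨g, hg⟩ : ∃ g, IsGenericPoint g Z := QuasiSober.sober hZ.1 (isClosed_of_mem_irreducibleComponents Z hZ)
  refine ⟨g, fun y hy => ?_, hg⟩
  have h1 : Z ⊆ closure {y} := by
    rw [← hg.def]
    exact closure_minimal (Set.singleton_subset_iff.mpr (specializes_iff_mem_closure.mp hy)) isClosed_closure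
  exact (hy.antisymm (hg.specializes (hZ.2 isIrreducible_singleton.closure h1 (subset_closure rfl)))).eq

theorem finite_meeting (hfin : ∀ U : X.Opens, IsCompact (U : Set X) → (irreducibleComponents ↥(U : Scheme.{u})).Finite)
    (x : X) : ∃ W : X.Opens, x ∈ W ∧
      {Z : Set X | Z ∈ irreducibleComponents X ∧ (Z ∩ (W : Set X)).Nonempty}.Finite := by
  obtain ⟨W, hW, hxW, -⟩ := exists_isAffineOpen_mem_and_subset (X := X) (U := ⊤) (x := x) trivial
  refine ⟨W, hxW, ?_⟩
  haveI := (hfin W hW.isCompact).to_subtype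
  choose g hg hgZ using fun Z : {Z : Set X | Z ∈ irreducibleComponents X ∧ (Z ∩ (W : Set X)).Nonempty} =>
    exists_maxPt Z.2.1
  have hgW : ∀ Z, g Z ∈ W := fun Z => by
    obtain ⟨y, hy, hyW⟩ := Z.2.2
    rw [← hgZ Z] at hy
    exact (specializes_iff_mem_closure.mpr hy).mem_open W.2 hyW
  have hmaxW : ∀ Z, ∀ y : W, y ⤳ (⟨g Z, hgW Z⟩ : W) → y = ⟨g Z, hgW Z⟩ := fun Z y hy =>
    Subtype.ext (hg Z _ (hy.map continuous_subtype_val))
  refine Set.finite_coe_iff.mp (Finite.of_injective (β := irreducibleComponents ↥(W : Scheme.{u}))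
    (fun Z => ⟨closure {(⟨g Z, hgW Z⟩ : W)}, Groth.Agent.GenComp.closure_mem_irreducibleComponents
      (X := (W : Scheme.{u})) (fun z hz => by rw [hmaxW Z z hz])⟩) ?_)
  intro Z Z' h
  have h1 : closure ({(⟨g Z, hgW Z⟩ : W)} : Set W) = closure {(⟨g Z', hgW Z'⟩ : W)} := congrArg Subtype.val h
  have h2 : (⟨g Z', hgW Z'⟩ : W) ⤳ ⟨g Z, hgW Z⟩ := specializes_iff_mem_closure.mpr (h1 ▸ subset_closure rfl)
  have h3 : g Z' = g Z := congrArg Subtype.val (hmaxW Z _ h2)
  apply Subtype.ext
  rw [← hgZ Z, ← hgZ Z', h3]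

/-- Opens separating the maximal points. -/
theorem exists_sep (hfin : ∀ x : X, ∃ W : X.Opens, x ∈ W ∧
      {Z : Set X | Z ∈ irreducibleComponents X ∧ (Z ∩ (W : Set X)).Nonempty}.Finite)
    {ξ : X} (hξ : IsMaxPt ξ) :
    ∃ U : X.Opens, ξ ∈ U ∧ ∀ y ∈ U, ∀ g : X, IsMaxPt g → g ⤳ y → g = ξ := by
  let T := {Z : Set X // Z ∈ irreducibleComponents X ∧ ξ ∉ Z}
  have hlf : LocallyFinite (fun Z : T => Z.1) := fun x => by
    obtain ⟨W, hxW, hW⟩ := hfin x
    refine ⟨W, W.2.mem_nhds hxW, ?_⟩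
    haveI := hW.to_subtype
    refine Set.finite_coe_iff.mp (Finite.of_injective
      (β := {Z : Set X | Z ∈ irreducibleComponents X ∧ (Z ∩ (W : Set X)).Nonempty})
      (fun Z => ⟨Z.1.1, Z.1.2.1, Z.2⟩) fun Z Z' h => Subtype.ext (Subtype.ext (congrArg (fun s => s.1) h)))
  refine ⟨⟨(⋃ Z : T, Z.1)ᶜ, (hlf.isClosed_iUnion fun Z => isClosed_of_mem_irreducibleComponents _ Z.2.1).isOpen_compl⟩,
    ?_, fun y hy g hg hgy => ?_⟩
  · exact fun h => by
      obtain ⟨Z, hZ⟩ := Set.mem_iUnion.mp h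
      exact Z.2.2 hZ
  by_contra hne
  refine hy (Set.mem_iUnion.mpr ⟨⟨closure {g}, Groth.Agent.GenComp.closure_mem_irreducibleComponents
    (fun z hz => by rw [hg z hz]), fun h => hne ?_⟩, specializes_iff_mem_closure.mp hgy⟩)
  exact hξ g (specializes_iff_mem_closure.mpr h)

theorem exists_maxPt_specializes (y : X) : ∃ g : X, IsMaxPt g ∧ g ⤳ y := by
  obtain ⟨g, hg, hgc⟩ := exists_maxPt (irreducibleComponent_mem_irreducibleComponents y)
  exact ⟨g, hg, specializes_iff_mem_closure.mpr (hgc.symm ▸ mem_irreducibleComponent)⟩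

theorem hasRegularMero_of_maxPts (hfin : ∀ x : X, ∃ W : X.Opens, x ∈ W ∧
      {Z : Set X | Z ∈ irreducibleComponents X ∧ (Z ∩ (W : Set X)).Nonempty}.Finite)
    (hden : ∀ V : X.Opens, (∀ z : X, IsMaxPt z → z ∈ V) → MeroLib.HasDenoms ⊤ V)
    {L : X.Modules} (hL : PicF.IsInvertible L) : Mero.HasRegularMero L := by
  classical
  choose U hξU hsep using fun ξ : {z : X // IsMaxPt z} => exists_sep hfin ξ.2
  choose W e hξW he using fun ξ : {z : X // IsMaxPt z} => TMul.exists_isGen hL ξ.1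
  obtain ⟨g, hg⟩ := MeroLib.exists_gen_of_disjoint (fun ξ => U ξ ⊓ W ξ) (fun ξ => res L inf_le_right (e ξ))
    (fun ξ O hO => by simpa only [res_res] using he ξ O (hO.trans inf_le_right))
    (fun i j x hi hj => by
      obtain ⟨g, hg, hgx⟩ := exists_maxPt_specializes x
      exact Subtype.ext ((hsep i x hi.1 g hg hgx).symm.trans (hsep j x hj.1 g hg hgx)))
  exact MeroLib.hasRegularMero_of_gen hL
    (hden _ fun z hz => Opens.mem_iSup.mpr ⟨⟨z, hz⟩, (⟨hξU ⟨z, hz⟩, hξW ⟨z, hz⟩⟩ : z ∈ U ⟨z, hz⟩ ⊓ W ⟨z, hz⟩)⟩) hg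

theorem hasRegularMero_of_reduced [IsReduced X]
    (hfin : ∀ U : X.Opens, IsCompact (U : Set X) → (irreducibleComponents ↥(U : Scheme.{u})).Finite)
    {L : X.Modules} (hL : PicF.IsInvertible L) : Mero.HasRegularMero L :=
  hasRegularMero_of_maxPts (finite_meeting hfin) (fun V hV => MeroLib.hasDenoms_of_maximal (finite_meeting hfin) ⊤ V
    fun z _ hz => hV z hz) hL

theorem finite_components_of_locallyNoetherian [IsLocallyNoetherian X] (U : X.Opens) (hU : IsCompact (U : Set X)) :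
    (irreducibleComponents ↥(U : Scheme.{u})).Finite := by
  haveI : CompactSpace ↥(U : Scheme.{u}) := isCompact_iff_compactSpace.mp hU
  haveI : IsNoetherian (U : Scheme.{u}) := {}
  exact NoetherianSpace.finite_irreducibleComponents

theorem hasRegularMero_of_noEmbedded [IsLocallyNoetherian X]
    (hne : ∀ x : X, Curv2.IsAssPoint (Coh.structureModule X) x →
      ∀ y : X, Curv2.IsAssPoint (Coh.structureModule X) y → y ⤳ x → y = x)
    {L : X.Modules} (hL : PicF.IsInvertible L) : Mero.HasRegularMero L := by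
  refine hasRegularMero_of_maxPts (finite_meeting finite_components_of_locallyNoetherian)
    (fun V hV => MeroLib.hasDenoms_of_ass ⊤ V fun z _ hz => hV z fun y hy => ?_) hL
  obtain ⟨w, hwy, hw⟩ := AssLib.exists_ass_specializes (M := Coh.structureModule X) (Groth.Agent.QC.isQCoh_unit X)
    (AssLib.nontrivial_struct y)
  have h := hne z ((AssLib.ass_struct_iff z).mpr hz) w hw (hwy.trans hy)
  rw [h] at hwy
  exact (hy.antisymm hwy).eq

end Groth.Agent.W7Mero
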