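import Groth.Agent.W7Mero.Frac
import Groth.Agent.MeroLib.Sections

/-!
The ideal of denominators of a meromorphic section of an invertible module.
-/

set_option autoImplicit false
set_option linter.style.haveILetI false
set_option backward.isDefEq.respectTransparency false

universe u

open CategoryTheory AlgebraicGeometry TopologicalSpace Opposite Mero
open Groth.Agent.MeroLib
open Groth.Agent.QC (res res_res resO res_smul)

noncomputable section

namespace Groth.Agent.W7Mero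

variable {X : Scheme.{u}} {L : X.Modules}

theorem mem_denomIdeal_iff (s : Γ(merMod L, ⊤)) {U : X.Opens} (g : Γ(X, U)) :
    g ∈ denomIdeal L s U ↔ ∃ m : Γ(L, U), ∀ y : U,
      gO y.1 y.2 g • s.1 ⟨y.1, trivial⟩ = mOne (gL L y.1 y.2 m) := Iff.rfl

theorem denomIdeal_res (s : Γ(merMod L, ⊤)) {U V : X.Opens} (h : V ≤ U) {g : Γ(X, U)}
    (hg : g ∈ denomIdeal L s U) : X.presheaf.map (homOfLE h).op g ∈ denomIdeal L s V := by
  obtain ⟨m, hm⟩ := hg
  refine (mem_denomIdeal_iff s _).mpr ⟨res L h m, fun y => ?_⟩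
  rw [gL_res]
  simp only [gO, TopCat.Presheaf.germ_res_apply]
  exact hm ⟨y.1, h y.2⟩

theorem exists_local_mero (s : Γ(merMod L, ⊤)) {U : X.Opens} (x : X) (hxU : x ∈ U) :
    ∃ (W : X.Opens) (m : Γ(L, W)) (b : Γ(X, W)) (hb : b ∈ regSub X W), IsAffineOpen W ∧ x ∈ W ∧ W ≤ U ∧
      ∀ y : W, s.1 ⟨y.1, trivial⟩ = LocalizedModule.mk (gL L y.1 y.2 m) (regGerm y ⟨b, hb⟩) := by
  obtain ⟨V, hx, i, m, b, h⟩ := s.2 ⟨x, trivial⟩
  obtain ⟨W, hW, hxW, hWV⟩ := TopologicalSpace.Opens.isBasis_iff_nbhd.mp X.isBasis_affineOpens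
    (show x ∈ (V : X.Opens) ⊓ U from ⟨hx, hxU⟩)
  refine ⟨W, res L (hWV.trans inf_le_left) m, X.presheaf.map (homOfLE (hWV.trans inf_le_left)).op b.1,
    regSub_res _ b.2, hW, hxW, hWV.trans inf_le_right, fun y => ?_⟩
  refine (h ⟨y.1, (hWV y.2).1⟩).trans ?_
  exact mk_congr (gL_res (hWV.trans inf_le_left) m y.1 y.2).symm
    (TopCat.Presheaf.germ_res_apply X.presheaf _ y.1 y.2 b.1).symm

/-- An equation between fractions is an equation of numerators. -/
theorem smul_eq_of_mk_eq (hL : PicF.IsInvertible L) {y : X} (G : X.presheaf.stalk y) (m M : L.presheaf.stalk y)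
    (b : regStalk X y) (h : G • (LocalizedModule.mk m b : MStalk L y) = mOne M) :
    G • m = (b : X.presheaf.stalk y) • M := by
  rw [LocalizedModule.smul'_mk, LocalizedModule.mk_eq] at h
  obtain ⟨t, ht⟩ := h
  simp only [Submonoid.smul_def, OneMemClass.coe_one, one_smul] at ht
  rw [← sub_eq_zero, ← smul_sub] at ht
  obtain ⟨V, e, hyV, he⟩ := TMul.exists_isGen hL y
  obtain ⟨q, hq⟩ := exists_coeff he ⟨y, hyV⟩ (G • m - (b : X.presheaf.stalk y) • M)
  rw [hq, smul_smul] at ht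
  have h2 := coeff_eq_zero he ⟨y, hyV⟩ _ ht
  rw [(mul_left_mem_nonZeroDivisors_eq_zero_iff (regStalk_le_nonZeroDivisors _ t.2)).mp h2, zero_smul,
    sub_eq_zero] at hq
  exact hq

/-- A defect `G • s - M` vanishing on a basic open is killed by a power of its equation. -/
theorem exists_pow_defect (hL : PicF.IsInvertible L) (s : Γ(merMod L, ⊤)) {U : X.Opens} (hU : IsAffineOpen U)
    (f G : Γ(X, U)) (M : Γ(L, U))
    (h : ∀ (y : X) (hy : y ∈ X.basicOpen f), gO y (X.basicOpen_le f hy) G • s.1 ⟨y, trivial⟩ =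
      mOne (gL L y (X.basicOpen_le f hy) M)) :
    ∃ k : ℕ, f ^ k * G ∈ denomIdeal L s U := by
  classical
  haveI : L.IsQuasicoherent := TMul.isQCoh_of_isInvertible hL
  choose W m b hb hW hxW hWU hs using fun x : U => exists_local_mero s x.1 x.2
  obtain ⟨F, hF⟩ := hU.isCompact.elim_finite_subcover (fun x : U => (W x : Set X)) (fun x => (W x).2)
    fun y hy => Set.mem_iUnion.mpr ⟨⟨y, hy⟩, hxW _⟩
  have hk : ∀ x : U, ∃ k : ℕ, X.presheaf.map (homOfLE (hWU x)).op f ^ k •
      (X.presheaf.map (homOfLE (hWU x)).op G • m x - b x • res L (hWU x) M) = 0 := by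
    intro x
    refine Groth.Agent.QC.exists_pow_smul_eq_zero_of_isCompact (M := L) (hW x).isCompact _ _ ?_
    refine TopCat.Presheaf.section_ext (Groth.Agent.QC.abSheaf L) _ _ 0 fun y hy => ?_
    change gL L y hy _ = gL L y hy 0
    rw [map_zero, gL_res, map_sub, gL_smul, gL_smul, gL_res, sub_eq_zero]
    simp only [gO, TopCat.Presheaf.germ_res_apply]
    have hyW : y ∈ W x := X.basicOpen_le _ hy
    have hyf : y ∈ X.basicOpen f := by
      rw [Scheme.basicOpen_res] at hy; exact hy.2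
    refine smul_eq_of_mk_eq hL _ _ _ (regGerm (⟨y, hyW⟩ : W x) ⟨b x, hb x⟩) ?_
    exact (congrArg _ (hs x ⟨y, hyW⟩)).symm.trans (h y hyf)
  choose k hk using hk
  refine ⟨F.sup k, (mem_denomIdeal_iff s _).mpr ⟨f ^ F.sup k • M, fun y => ?_⟩⟩
  obtain ⟨x, hxF, hyx⟩ := Set.mem_iUnion₂.mp (hF y.2)
  obtain ⟨l, hl⟩ := Nat.exists_eq_add_of_le (Finset.le_sup (f := k) hxF)
  have h1 := congrArg (gL L y.1 hyx) (hk x)
  rw [map_zero, gL_smul, map_sub, gL_smul, gL_smul, gL_res, map_pow] at h1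
  simp only [gO, TopCat.Presheaf.germ_res_apply] at h1
  rw [smul_sub, sub_eq_zero, smul_smul, smul_smul] at h1
  rw [gL_smul, map_mul, map_pow, hs x ⟨y.1, hyx⟩, LocalizedModule.smul'_mk, LocalizedModule.mk_eq]
  refine ⟨1, ?_⟩
  simp only [one_smul, Submonoid.smul_def, OneMemClass.coe_one]
  change (gO y.1 y.2 f ^ F.sup k * gO y.1 y.2 G) • gL L y.1 hyx (m x) =
    gO y.1 hyx (b x) • gO y.1 y.2 f ^ F.sup k • gL L y.1 y.2 M
  rw [hl, pow_add, smul_smul]
  have h2 := congrArg (fun v => gO y.1 y.2 f ^ l • v) h1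
  simp only [smul_smul] at h2
  convert h2 using 1 <;> congr 1 <;> ring

theorem exists_idealSheaf_denom (hL : PicF.IsInvertible L) (s : Γ(merMod L, ⊤)) :
    ∃ I : X.IdealSheafData, ∀ U : X.affineOpens, I.ideal U = denomIdeal L s U.1 := by
  haveI : L.IsQuasicoherent := TMul.isQCoh_of_isInvertible hL
  refine ⟨{ ideal := fun U => denomIdeal L s U.1, map_ideal_basicOpen := fun U f => ?_ }, fun U => rfl⟩
  refine le_antisymm (Ideal.map_le_iff_le_comap.mpr fun g hg => denomIdeal_res s (X.basicOpen_le f) hg) fun g hg => ?_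
  obtain ⟨μ, hμ⟩ := hg
  haveI := U.2.isLocalization_basicOpen f
  obtain ⟨⟨g', _, p, rfl⟩, hg'⟩ := IsLocalization.surj (Submonoid.powers f) g
  obtain ⟨n, t, ht⟩ := Groth.Agent.QC.exists_pow_smul_extends_of_isCompact (M := L) U.2.isCompact
    U.2.isQuasiSeparated f μ
  obtain ⟨k, hk⟩ := exists_pow_defect hL s U.2 f (f ^ n * g') (f ^ p • t) fun y hy => by
    have h1 := congrArg (gO y hy) hg'
    simp only [map_mul, RingHom.algebraMap_toAlgebra, gO] at h1
    erw [TopCat.Presheaf.germ_res_apply, TopCat.Presheaf.germ_res_apply] at h1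
    rw [map_pow] at h1
    have h2 := congrArg (gL L y hy) ht
    rw [gL_res, gL_smul, map_pow] at h2
    simp only [gO, resO, TopCat.Presheaf.germ_res_apply] at h2
    rw [gL_smul, h2, map_mul, map_pow, map_pow, mul_smul]
    have hμy : gO y hy g • s.1 ⟨y, trivial⟩ = mOne (gL L y hy μ) := hμ ⟨y, hy⟩
    have hm : ∀ (r : X.presheaf.stalk y) (v : L.presheaf.stalk y), mOne (r • v) = r • mOne v := fun r v =>
      (LocalizedModule.smul'_mk r v 1).symm
    rw [hm, hm, ← hμy, ← h1, smul_smul, smul_smul, smul_smul]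
    congr 1
    simp only [gO]
    ring
  have hu : IsUnit (algebraMap Γ(X, U.1) Γ(X, X.basicOpen f) (f ^ k * f ^ n * f ^ p)) := by
    rw [← pow_add, ← pow_add]
    exact IsLocalization.map_units (M := Submonoid.powers f) Γ(X, X.basicOpen f) ⟨f ^ (k + n + p), _, rfl⟩
  refine (Ideal.unit_mul_mem_iff_mem _ hu).mp ?_
  have h3 := Ideal.mem_map_of_mem (X.presheaf.map (homOfLE (X.basicOpen_le f)).op).hom hk
  refine (congrArg (fun v => v ∈ Ideal.map (X.presheaf.map (homOfLE (X.basicOpen_le f)).op).hom (denomIdeal L s U.1)) ?_).mpr h3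
  rw [map_mul, mul_assoc, mul_comm (algebraMap _ _ (f ^ p)), hg']
  simp only [map_mul, RingHom.algebraMap_toAlgebra]
  ring

/-- The zero locus of the denominators of a meromorphic section is nowhere dense. -/
theorem interior_support_eq_empty (s : Γ(merMod L, ⊤)) (I : X.IdealSheafData)
    (hI : ∀ U : X.affineOpens, I.ideal U = denomIdeal L s U.1) : interior (I.support : Set X) = ∅ := by
  refine Set.eq_empty_of_forall_notMem fun x hx => ?_
  obtain ⟨W, m, b, hb, hW, hxW, hle, hs⟩ := exists_local_mero s (U := ⟨interior (I.support : Set X), isOpen_interior⟩) x hx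
  have hbI : b ∈ I.ideal ⟨W, hW⟩ := by
    rw [hI]
    refine (mem_denomIdeal_iff s _).mpr ⟨m, fun y => ?_⟩
    rw [hs y, LocalizedModule.smul'_mk, LocalizedModule.mk_eq]
    exact ⟨1, by simp [Submonoid.smul_def, regGerm]⟩
  have hbot : X.basicOpen b = ⊥ := by
    refine eq_bot_iff.mpr fun y hy => ?_
    have hyW := X.basicOpen_le b hy
    have hsupp : y ∈ (I.support : Set X) := interior_subset (hle hyW)
    have hz := ((I.mem_support_iff_of_mem (U := ⟨W, hW⟩) hyW).mp hsupp)
    exact absurd hy (Scheme.mem_zeroLocus_iff _ _ _ |>.mp hz b hbI)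
  obtain ⟨n, hn⟩ : IsNilpotent b := (PrimeSpectrum.basicOpen_eq_bot_iff b).mp (by
    rw [← hW.fromSpec_preimage_basicOpen b, hbot]; rfl)
  have h0 : (0 : X.presheaf.stalk x) ∈ nonZeroDivisors (X.presheaf.stalk x) := by
    have := pow_mem (hb ⟨x, hxW⟩) n
    rwa [← map_pow, hn, map_zero] at this
  exact one_ne_zero (α := X.presheaf.stalk x) ((mul_left_mem_nonZeroDivisors_eq_zero_iff h0).mp (zero_mul _))

end Groth.Agent.W7Mero
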