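import Groth.Agent.W7Mero.Frac
import Groth.Agent.W7Mero.Max
import Groth.Agent.WeakAssLib.Regular

/-!
Regular germs and fractions when the weakly associated points are the maximal points.
-/

set_option autoImplicit false
set_option linter.style.haveILetI false
set_option backward.isDefEq.respectTransparency false

universe u

open CategoryTheory AlgebraicGeometry TopologicalSpace Opposite Mero
open Groth.Agent.MeroLib

noncomputable section

namespace Groth.Agent.W7Mero

variable {X : Scheme.{u}}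

theorem finite_maxPts (hb : ∀ U : X.Opens, IsCompact (U : Set X) → (irreducibleComponents ↥(U : Scheme.{u})).Finite)
    {W : X.Opens} (hW : IsCompact (W : Set X)) : {y : X | y ∈ W ∧ IsMaxPt y}.Finite := by
  haveI := (hb W hW).to_subtype
  have hmax : ∀ y : {y : X | y ∈ W ∧ IsMaxPt y}, ∀ z : W, z ⤳ (⟨y.1, y.2.1⟩ : W) → z = ⟨y.1, y.2.1⟩ :=
    fun y z hz => Subtype.ext (y.2.2 _ (hz.map continuous_subtype_val))
  refine Set.finite_coe_iff.mp (Finite.of_injective (β := irreducibleComponents ↥(W : Scheme.{u}))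
    (fun y => ⟨closure {(⟨y.1, y.2.1⟩ : W)}, Groth.Agent.GenComp.closure_mem_irreducibleComponents
      (X := (W : Scheme.{u})) (fun z hz => by rw [hmax y z hz])⟩) ?_)
  intro y y' h
  have h1 : closure ({(⟨y.1, y.2.1⟩ : W)} : Set W) = closure {(⟨y'.1, y'.2.1⟩ : W)} := congrArg Subtype.val h
  have h2 : (⟨y'.1, y'.2.1⟩ : W) ⤳ ⟨y.1, y.2.1⟩ := specializes_iff_mem_closure.mpr (h1 ▸ subset_closure rfl)
  exact Subtype.ext (congrArg (fun w : W => (w : X)) (hmax y _ h2)).symm

theorem germ_regular (ha : ∀ x : X, Curv2.IsWeakAssPoint (Coh.structureModule X) x → IsMaxPt x)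
    {V : X.Opens} (t : Γ(X, V)) (ht : ∀ (y : X) (hy : y ∈ V), IsMaxPt y → IsUnit (gO y hy t)) : t ∈ regSub X V :=
  fun z => WeakAssLib.germ_mem_nonZeroDivisors t (fun y hy hw => ht y hy (ha y hw)) z.2

theorem regStalk_eq (ha : ∀ x : X, Curv2.IsWeakAssPoint (Coh.structureModule X) x → IsMaxPt x)
    (hb : ∀ U : X.Opens, IsCompact (U : Set X) → (irreducibleComponents ↥(U : Scheme.{u})).Finite) (x : X) :
    regStalk X x = nonZeroDivisors (X.presheaf.stalk x) := by
  refine le_antisymm (regStalk_le_nonZeroDivisors x) fun σ hσ => ?_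
  obtain ⟨V, hxV, c, rfl⟩ := TopCat.Presheaf.exists_germ_eq (C := CommRingCat) X.presheaf σ
  obtain ⟨W, hW, hxW, hWV⟩ := TopologicalSpace.Opens.isBasis_iff_nbhd.mp X.isBasis_affineOpens hxV
  let T : Set X := {y | y ∈ W ∧ IsMaxPt y} ∩ {y | ¬ y ⤳ x}
  have hT : T.Finite := (finite_maxPts hb hW.isCompact).subset Set.inter_subset_left
  let W' : X.Opens := W ⊓ ⟨(⋃ y ∈ T, closure {y})ᶜ, (hT.isClosed_biUnion fun y _ => isClosed_closure).isOpen_compl⟩
  have hxW' : x ∈ W' := ⟨hxW, fun h => by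
    obtain ⟨y, hy, hyx⟩ := Set.mem_iUnion₂.mp h
    exact hy.2 (specializes_iff_mem_closure.mpr hyx)⟩
  have hle : W' ≤ V := inf_le_left.trans hWV
  refine ⟨W', hxW', X.presheaf.map (homOfLE hle).op c, germ_regular ha _ fun y hy hym => ?_,
    TopCat.Presheaf.germ_res_apply _ _ _ _ _⟩
  have hyx : y ⤳ x := by
    by_contra h
    exact hy.2 (Set.mem_iUnion₂.mpr ⟨y, ⟨⟨hy.1, hym⟩, h⟩, subset_closure rfl⟩)
  refine WeakAssLib.isUnit_of_mem_nonZeroDivisors_maximalPt hym ?_
  obtain ⟨O, hO, hxO, hOW⟩ := TopologicalSpace.Opens.isBasis_iff_nbhd.mp X.isBasis_affineOpens hxW'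
  have hyO : y ∈ O := hyx.mem_open O.2 hxO
  let d := X.presheaf.map (homOfLE (hOW.trans hle)).op c
  letI := TopCat.Presheaf.algebra_section_stalk X.presheaf ⟨x, hxO⟩
  haveI := hO.isLocalization_stalk ⟨x, hxO⟩
  refine mem_nonZeroDivisors_iff_right.2 fun r hr => ?_
  letI := TopCat.Presheaf.algebra_section_stalk X.presheaf ⟨y, hyO⟩
  haveI := hO.isLocalization_stalk ⟨y, hyO⟩
  obtain ⟨⟨a, s⟩, has⟩ := IsLocalization.surj (hO.primeIdealOf ⟨y, hyO⟩).asIdeal.primeCompl r
  have h1 : algebraMap Γ(X, O) (X.presheaf.stalk y) (a * d) = 0 := by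
    rw [map_mul, ← has]
    have hd : algebraMap Γ(X, O) (X.presheaf.stalk y) d = gO y hy (X.presheaf.map (homOfLE hle).op c) := by
      simp only [RingHom.algebraMap_toAlgebra, gO]
      erw [TopCat.Presheaf.germ_res_apply, TopCat.Presheaf.germ_res_apply]
    rw [hd, mul_right_comm, hr, zero_mul]
  obtain ⟨⟨e, he⟩, hed⟩ := (IsLocalization.map_eq_zero_iff (hO.primeIdealOf ⟨y, hyO⟩).asIdeal.primeCompl _ _).mp h1
  have hd : algebraMap Γ(X, O) (X.presheaf.stalk x) d ∈ nonZeroDivisors (X.presheaf.stalk x) := by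
    convert hσ using 1
    simp only [RingHom.algebraMap_toAlgebra, d]
    erw [TopCat.Presheaf.germ_res_apply]
  have h2 : algebraMap Γ(X, O) (X.presheaf.stalk x) (e * a) = 0 := by
    refine (mul_right_mem_nonZeroDivisors_eq_zero_iff hd).mp ?_
    rw [← map_mul, mul_assoc]
    exact (congrArg _ hed).trans (map_zero _)
  obtain ⟨⟨w, hw⟩, hwea⟩ := (IsLocalization.map_eq_zero_iff (hO.primeIdealOf ⟨x, hxO⟩).asIdeal.primeCompl _ _).mp h2
  have hw' : w ∉ (hO.primeIdealOf ⟨y, hyO⟩).asIdeal := fun hwy => hw (by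
    refine (PrimeSpectrum.le_iff_specializes _ _).mpr ?_ hwy
    refine hO.fromSpec.isEmbedding.isInducing.specializes_iff.mp ?_
    rw [hO.fromSpec_primeIdealOf, hO.fromSpec_primeIdealOf]
    exact hyx)
  have ha0 : algebraMap Γ(X, O) (X.presheaf.stalk y) a = 0 :=
    (IsLocalization.map_eq_zero_iff (hO.primeIdealOf ⟨y, hyO⟩).asIdeal.primeCompl _ _).mpr
      ⟨⟨w * e, mul_mem hw' he⟩, by
        change w * e * a = 0
        rw [mul_assoc]; exact hwea⟩
  rw [ha0] at has
  exact (IsLocalization.map_units (X.presheaf.stalk y) s).mul_left_eq_zero.mp has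

theorem exists_fraction_of_weakAss (ha : ∀ x : X, Curv2.IsWeakAssPoint (Coh.structureModule X) x → IsMaxPt x)
    (hb : ∀ U : X.Opens, IsCompact (U : Set X) → (irreducibleComponents ↥(U : Scheme.{u})).Finite)
    {U : X.Opens} (hU : IsAffineOpen U) (f : Γ(kmod X, U)) :
    ∃ a b : Γ(X, U), b ∈ nonZeroDivisors Γ(X, U) ∧
      ∀ y : U, f.1 y * iK y.1 (gO y.1 y.2 b) = iK y.1 (gO y.1 y.2 a) := by
  refine exists_fraction' hU (Q := (fun z : U => (hU.primeIdealOf z).asIdeal) '' {z | IsMaxPt z.1}) ?_ ?_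
    (fun b hbQ => ?_) (fun q hq z hz t ht => ?_) f
  · refine Set.Finite.image _ (((finite_maxPts hb hU.isCompact).preimage (f := fun z : U => z.1)
      Subtype.val_injective.injOn).subset fun z hz => ⟨z.2, hz⟩)
  · rintro _ ⟨z, -, rfl⟩; exact (hU.primeIdealOf z).2
  · rw [← Groth.Agent.S12513.result X U hU]
    refine germ_regular ha b fun y hy hym => (X.mem_basicOpen b y hy).mp ?_
    exact (WeakAssLib.mem_primeIdealOf hU hy b).mpr (hbQ _ ⟨⟨y, hy⟩, hym, rfl⟩)
  · obtain ⟨z', hz', rfl⟩ := hq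
    obtain rfl : z = z' := by
      have h1 := congrArg hU.fromSpec (PrimeSpectrum.ext hz : hU.primeIdealOf z = hU.primeIdealOf z')
      rw [hU.fromSpec_primeIdealOf, hU.fromSpec_primeIdealOf] at h1
      exact Subtype.ext h1
    exact WeakAssLib.isUnit_of_mem_nonZeroDivisors_maximalPt hz' ht

end Groth.Agent.W7Mero
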